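import Mathlib.GroupTheory.Perm.Basic
import Mathlib.Algebra.Group.Subgroup.Lattice
import Mathlib.Algebra.Group.Subgroup.Pointwise
import Mathlib.Algebra.Group.Submonoid.BigOperators
import Mathlib.Data.Fintype.Basic
import Mathlib.Tactic.Group

/-!
# Abstract Bruhat decomposition

A group `Γ` with a subgroup `T`, subgroups `U a` indexed by "roots", elements `n a` acting by the
permutations `s a`, and subgroups `Um`, `Up` which are products of the negative (positive) `U a` in any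
order.  Then `Γ` is the union of the sets `U⁻_w n_w T U⁺`.
-/

set_option autoImplicit false
universe u v

namespace Groth.Agent.RedSub.H637.BruhatAbs

section PL

variable {Γ : Type u} [Group Γ] {idx : Type v}

/-- ordered products of elements of `U a` along a list -/
def PL (U : idx → Subgroup Γ) : List idx → Set Γ
  | [] => {1}
  | a :: L => {g | ∃ x ∈ U a, ∃ y ∈ PL U L, g = x * y}

variable {U : idx → Subgroup Γ}

lemma mem_PL_nil {g : Γ} : g ∈ PL U [] ↔ g = 1 := Iff.rfl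

lemma mem_PL_cons {a : idx} {L : List idx} {g : Γ} :
    g ∈ PL U (a :: L) ↔ ∃ x ∈ U a, ∃ y ∈ PL U L, g = x * y := Iff.rfl

lemma mem_PL_append {L L' : List idx} {g : Γ} :
    g ∈ PL U (L ++ L') ↔ ∃ x ∈ PL U L, ∃ y ∈ PL U L', g = x * y := by
  induction L generalizing g with
  | nil =>
    constructor
    · intro h
      exact ⟨1, rfl, g, h, (one_mul g).symm⟩
    · rintro ⟨x, hx, y, hy, rfl⟩
      rw [mem_PL_nil.mp hx, one_mul]
      exact hy
  | cons a L ih =>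
    rw [List.cons_append]
    constructor
    · rintro ⟨x, hx, y, hy, rfl⟩
      obtain ⟨x', hx', y', hy', rfl⟩ := ih.mp hy
      exact ⟨x * x', ⟨x, hx, x', hx', rfl⟩, y', hy', (mul_assoc _ _ _).symm⟩
    · rintro ⟨_, ⟨x, hx, x', hx', rfl⟩, y, hy, rfl⟩
      exact ⟨x, hx, x' * y, ih.mpr ⟨x', hx', y, hy, rfl⟩, mul_assoc _ _ _⟩

/-- conjugation carries ordered products into a subgroup -/
lemma PL_conj {H : Subgroup Γ} {n : Γ} {L : List idx}
    (h : ∀ a ∈ L, ∀ x ∈ U a, n * x * n⁻¹ ∈ H) {g : Γ} (hg : g ∈ PL U L) : n * g * n⁻¹ ∈ H := by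
  induction L generalizing g with
  | nil =>
    rw [mem_PL_nil.mp hg]
    simp
  | cons a L ih =>
    obtain ⟨x, hx, y, hy, rfl⟩ := hg
    have h1 : n * (x * y) * n⁻¹ = (n * x * n⁻¹) * (n * y * n⁻¹) := by group
    rw [h1]
    exact H.mul_mem (h a (by simp) x hx) (ih (fun b hb => h b (by simp [hb])) hy)

end PL

/-- The data for the abstract Bruhat decomposition. -/
structure BData (Γ : Type u) [Group Γ] (idx : Type v) where
  /-- torus -/
  T : Subgroup Γ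
  /-- root subgroups -/
  U : idx → Subgroup Γ
  /-- product of the negative root subgroups -/
  Um : Subgroup Γ
  /-- product of the positive root subgroups -/
  Up : Subgroup Γ
  /-- the negative roots -/
  neg : Set idx
  /-- the representatives of the reflections -/
  n : idx → Γ
  /-- the reflections -/
  s : idx → Equiv.Perm idx
  /-- the simple roots -/
  simple : Set idx
  /-- the opposite root -/
  opp : idx → idx
  T_U : ∀ t ∈ T, ∀ a, ∀ x ∈ U a, t * x * t⁻¹ ∈ U a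
  T_n : ∀ a, ∀ t ∈ T, n a * t * (n a)⁻¹ ∈ T
  T_n' : ∀ a, ∀ t ∈ T, (n a)⁻¹ * t * n a ∈ T
  n_sq : ∀ a, n a * n a ∈ T
  n_U : ∀ a c x, x ∈ U c → n a * x * (n a)⁻¹ ∈ U (s a c)
  n_U' : ∀ a c x, x ∈ U c → (n a)⁻¹ * x * n a ∈ U ((s a)⁻¹ c)
  rank1 : ∀ a ∈ simple, ∀ x ∈ U a, x ≠ 1 →
    ∃ v ∈ U (opp a), ∃ t ∈ T, ∃ v' ∈ U (opp a), x = v * n a * t * v'
  s_opp_self : ∀ a, s a (opp a) = a
  s_opp : ∀ a c, (s a)⁻¹ (opp c) = opp ((s a)⁻¹ c)
  neg_opp : ∀ c, opp c ∈ neg ↔ c ∉ neg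
  Um_ord : ∀ L : List idx, L.Nodup → (∀ a, a ∈ L ↔ a ∈ neg) → ∀ g ∈ Um, g ∈ PL U L
  U_le_Um : ∀ a ∈ neg, U a ≤ Um
  U_le_Up : ∀ a ∉ neg, U a ≤ Up
  Up_ord : ∀ L : List idx, L.Nodup → (∀ a, a ∈ L ↔ a ∉ neg) → ∀ g ∈ Up, g ∈ PL U L
  simple_pos : ∀ a ∈ simple, a ∉ neg
  s_neg : ∀ a ∈ simple, ∀ c ∈ neg, c ≠ opp a → s a c ∈ neg

namespace BData

variable {Γ : Type u} [Group Γ] {idx : Type v} (D : BData Γ idx)

/-- product of the representatives along a word -/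
def nl (l : List idx) : Γ := (l.map D.n).prod

/-- product of the reflections along a word -/
def wl (l : List idx) : Equiv.Perm idx := (l.map D.s).prod

@[simp] lemma nl_nil : D.nl [] = 1 := rfl
@[simp] lemma nl_cons (a : idx) (l : List idx) : D.nl (a :: l) = D.n a * D.nl l := by simp [nl]
@[simp] lemma wl_nil : D.wl [] = 1 := rfl
@[simp] lemma wl_cons (a : idx) (l : List idx) : D.wl (a :: l) = D.s a * D.wl l := by simp [wl]

lemma nl_inv_U (l : List idx) (c : idx) (x : Γ) (hx : x ∈ D.U c) :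
    (D.nl l)⁻¹ * x * D.nl l ∈ D.U ((D.wl l)⁻¹ c) := by
  induction l generalizing c x with
  | nil => simpa using hx
  | cons a l ih =>
    have h1 := ih _ _ (D.n_U' a c x hx)
    have h2 : (D.nl (a :: l))⁻¹ * x * D.nl (a :: l) =
        (D.nl l)⁻¹ * ((D.n a)⁻¹ * x * D.n a) * D.nl l := by
      rw [nl_cons]; group
    rw [h2, wl_cons, mul_inv_rev]
    exact h1

lemma nl_inv_T (l : List idx) (t : Γ) (ht : t ∈ D.T) : (D.nl l)⁻¹ * t * D.nl l ∈ D.T := by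
  induction l generalizing t with
  | nil => simpa using ht
  | cons a l ih =>
    have h1 := ih _ (D.T_n' a t ht)
    have h2 : (D.nl (a :: l))⁻¹ * t * D.nl (a :: l) =
        (D.nl l)⁻¹ * ((D.n a)⁻¹ * t * D.n a) * D.nl l := by
      rw [nl_cons]; group
    rw [h2]
    exact h1

lemma wl_inv_opp (l : List idx) (c : idx) : (D.wl l)⁻¹ (D.opp c) = D.opp ((D.wl l)⁻¹ c) := by
  induction l generalizing c with
  | nil => simp
  | cons a l ih =>
    rw [wl_cons, mul_inv_rev, Equiv.Perm.mul_apply, D.s_opp, ih, Equiv.Perm.mul_apply]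

lemma s_inv_self (a : idx) : (D.s a)⁻¹ a = D.opp a := by
  rw [Equiv.Perm.inv_eq_iff_eq, D.s_opp_self]

lemma s_inv_opp_self (a : idx) : (D.s a)⁻¹ (D.opp a) = D.opp (D.opp a) := by
  rw [D.s_opp, s_inv_self]

variable [Fintype idx]

lemma exists_list (A : Set idx) : ∃ L : List idx, L.Nodup ∧ ∀ a, a ∈ L ↔ a ∈ A := by
  classical
  exact ⟨(Finset.univ.filter (fun a => a ∈ A)).toList, Finset.nodup_toList _, by simp⟩

lemma T_Um (t : Γ) (ht : t ∈ D.T) (u : Γ) (hu : u ∈ D.Um) : t * u * t⁻¹ ∈ D.Um := by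
  obtain ⟨L, hL, hL'⟩ := exists_list D.neg
  exact PL_conj (fun a ha x hx => D.U_le_Um a ((hL' a).1 ha) (D.T_U t ht a x hx))
    (D.Um_ord L hL hL' u hu)

lemma T_Up (t : Γ) (ht : t ∈ D.T) (u : Γ) (hu : u ∈ D.Up) : t * u * t⁻¹ ∈ D.Up := by
  obtain ⟨L, hL, hL'⟩ := exists_list (D.negᶜ)
  exact PL_conj (fun a ha x hx => D.U_le_Up a ((hL' a).1 ha) (D.T_U t ht a x hx))
    (D.Up_ord L hL hL' u hu)

/-- the union of the sets `U⁻ n_l T U⁺` -/
def X : Set Γ := {g | ∃ u ∈ D.Um, ∃ l : List idx, ∃ t ∈ D.T, ∃ v ∈ D.Up, g = u * D.nl l * t * v}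

omit [Fintype idx] in
lemma one_mem_X : (1 : Γ) ∈ D.X :=
  ⟨1, D.Um.one_mem, [], 1, D.T.one_mem, 1, D.Up.one_mem, by simp⟩

omit [Fintype idx] in
lemma Um_mul_X {u g : Γ} (hu : u ∈ D.Um) (hg : g ∈ D.X) : u * g ∈ D.X := by
  obtain ⟨u', hu', l, t, ht, v, hv, rfl⟩ := hg
  exact ⟨u * u', D.Um.mul_mem hu hu', l, t, ht, v, hv, by group⟩

lemma T_mul_X {s g : Γ} (hs : s ∈ D.T) (hg : g ∈ D.X) : s * g ∈ D.X := by
  obtain ⟨u', hu', l, t, ht, v, hv, rfl⟩ := hg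
  exact ⟨s * u' * s⁻¹, D.T_Um s hs u' hu', l, (D.nl l)⁻¹ * s * D.nl l * t,
    D.T.mul_mem (D.nl_inv_T l s hs) ht, v, hv, by group⟩

/-- right stability under `T U⁺` -/
lemma X_mul {g t v : Γ} (hg : g ∈ D.X) (ht : t ∈ D.T) (hv : v ∈ D.Up) : g * (t * v) ∈ D.X := by
  obtain ⟨u', hu', l, t', ht', v', hv', rfl⟩ := hg
  have h1 := D.T_Up t⁻¹ (D.T.inv_mem ht) v' hv'
  refine ⟨u', hu', l, t' * t, D.T.mul_mem ht' ht, (t⁻¹ * v' * t⁻¹⁻¹) * v, D.Up.mul_mem h1 hv, ?_⟩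
  group

/-- stability under the representatives of the simple reflections -/
lemma n_mul_X {a : idx} (ha : a ∈ D.simple) {g : Γ} (hg : g ∈ D.X) : D.n a * g ∈ D.X := by
  classical
  obtain ⟨u, hu, l, t, ht, v, hv, rfl⟩ := hg
  have hoa : D.opp a ∈ D.neg := (D.neg_opp a).2 (D.simple_pos a ha)
  -- reorder with `-a` last
  obtain ⟨L, hL, hL'⟩ := exists_list (D.neg \ {D.opp a})
  have hLn : (L ++ [D.opp a]).Nodup := by
    rw [List.nodup_append]
    refine ⟨hL, by simp, ?_⟩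
    intro c hc c' hc' hcc'
    rw [List.mem_singleton] at hc'
    exact ((hL' c).1 hc).2 (by rw [hcc', hc']; rfl)
  have hLm : ∀ c, c ∈ L ++ [D.opp a] ↔ c ∈ D.neg := by
    intro c
    rw [List.mem_append, hL', List.mem_singleton]
    constructor
    · rintro (h | rfl)
      · exact h.1
      · exact hoa
    · intro h
      by_cases hc : c = D.opp a
      · exact Or.inr hc
      · exact Or.inl ⟨h, hc⟩
  obtain ⟨u', hu', y, ⟨y', hy', z, hz, rfl⟩, rfl⟩ := mem_PL_append.1 (D.Um_ord _ hLn hLm u hu)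
  rw [mem_PL_nil.1 hz, mul_one]
  clear hz hu
  have h1 : D.n a * u' * (D.n a)⁻¹ ∈ D.Um := by
    refine PL_conj (fun c hc x hx => ?_) hu'
    have hc' := (hL' c).1 hc
    exact D.U_le_Um _ (D.s_neg a ha c hc'.1 hc'.2) (D.n_U a c x hx)
  have h2 : D.n a * ((u' * y') * D.nl l * t * v) =
      (D.n a * u' * (D.n a)⁻¹) * ((D.n a * y' * D.nl l) * (t * v)) := by group
  rw [h2]
  refine D.Um_mul_X h1 (D.X_mul ?_ ht hv)
  by_cases hcase : (D.wl l)⁻¹ (D.opp a) ∈ D.neg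
  · -- then `w⁻¹ a` is positive
    have hpos : (D.wl l)⁻¹ a ∉ D.neg := by
      rw [wl_inv_opp, D.neg_opp] at hcase
      exact hcase
    by_cases hy1 : y' = 1
    · refine ⟨1, D.Um.one_mem, a :: l, 1, D.T.one_mem, 1, D.Up.one_mem, ?_⟩
      rw [hy1, nl_cons]; group
    · have h3 : D.n a * y' * (D.n a)⁻¹ ∈ D.U a := by
        have := D.n_U a _ y' hy'
        rwa [D.s_opp_self] at this
      have h4 : D.n a * y' * (D.n a)⁻¹ ≠ 1 := by
        intro h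
        apply hy1
        have h5 : y' = (D.n a)⁻¹ * (D.n a * y' * (D.n a)⁻¹) * D.n a := by group
        rw [h5, h]; group
      obtain ⟨w, hw, t₁, ht₁, w', hw', h5⟩ := D.rank1 a ha _ h3 h4
      have h6 : D.n a * y' = w * D.n a * t₁ * w' * D.n a := by
        rw [← h5]; group
      -- `n_a⁻¹ w' n_a ∈ U_a`
      have h7 : (D.n a)⁻¹ * w' * D.n a ∈ D.U (D.opp (D.opp a)) := by
        have := D.n_U' a _ w' hw'
        rwa [s_inv_opp_self] at this
      have h8 := D.nl_inv_U l _ _ h7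
      have h9 : (D.wl l)⁻¹ (D.opp (D.opp a)) ∉ D.neg := by
        rw [wl_inv_opp, D.neg_opp, not_not, wl_inv_opp, D.neg_opp]
        exact hpos
      have h10 : D.n a * t₁ * D.n a ∈ D.T := by
        have h11 : D.n a * t₁ * D.n a = (D.n a * t₁ * (D.n a)⁻¹) * (D.n a * D.n a) := by group
        rw [h11]
        exact D.T.mul_mem (D.T_n a t₁ ht₁) (D.n_sq a)
      refine ⟨w, D.U_le_Um _ hoa hw, l, (D.nl l)⁻¹ * (D.n a * t₁ * D.n a) * D.nl l,
        D.nl_inv_T l _ h10, (D.nl l)⁻¹ * ((D.n a)⁻¹ * w' * D.n a) * D.nl l,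
        D.U_le_Up _ h9 h8, ?_⟩
      rw [h6]
      group
  · have h3 := D.nl_inv_U l _ _ hy'
    refine ⟨1, D.Um.one_mem, a :: l, 1, D.T.one_mem, (D.nl l)⁻¹ * y' * D.nl l,
      D.U_le_Up _ hcase h3, ?_⟩
    rw [nl_cons]
    group

/-- the subgroup generated by `U⁻`, `T` and the representatives of the simple reflections -/
def gen : Subgroup Γ := Subgroup.closure ((D.Um : Set Γ) ∪ (D.T : Set Γ) ∪ D.n '' D.simple)

lemma n_inv_mul_X {a : idx} (ha : a ∈ D.simple) {g : Γ} (hg : g ∈ D.X) : (D.n a)⁻¹ * g ∈ D.X := by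
  have h1 : (D.n a)⁻¹ * g = (D.n a * D.n a)⁻¹ * (D.n a * g) := by group
  rw [h1]
  exact D.T_mul_X (D.T.inv_mem (D.n_sq a)) (D.n_mul_X ha hg)

lemma gen_mul_X {h g : Γ} (hh : h ∈ D.gen) (hg : g ∈ D.X) : h * g ∈ D.X := by
  have key : (∀ g ∈ D.X, h * g ∈ D.X) ∧ ∀ g ∈ D.X, h⁻¹ * g ∈ D.X := by
    refine Subgroup.closure_induction
      (p := fun h _ => (∀ g ∈ D.X, h * g ∈ D.X) ∧ ∀ g ∈ D.X, h⁻¹ * g ∈ D.X) ?_ ?_ ?_ ?_ hh
    · rintro x ((hx | hx) | ⟨a, ha, rfl⟩)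
      · exact ⟨fun g hg => D.Um_mul_X hx hg, fun g hg => D.Um_mul_X (D.Um.inv_mem hx) hg⟩
      · exact ⟨fun g hg => D.T_mul_X hx hg, fun g hg => D.T_mul_X (D.T.inv_mem hx) hg⟩
      · exact ⟨fun g hg => D.n_mul_X ha hg, fun g hg => D.n_inv_mul_X ha hg⟩
    · exact ⟨fun g hg => by rwa [one_mul], fun g hg => by rwa [inv_one, one_mul]⟩
    · rintro x y _ _ ⟨hx, hx'⟩ ⟨hy, hy'⟩
      refine ⟨fun g hg => ?_, fun g hg => ?_⟩
      · rw [mul_assoc]
        exact hx _ (hy _ hg)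
      · rw [mul_inv_rev, mul_assoc]
        exact hy' _ (hx' _ hg)
    · rintro x _ ⟨hx, hx'⟩
      exact ⟨hx', fun g hg => by rw [inv_inv]; exact hx g hg⟩
  exact key.1 g hg

omit [Fintype idx] in
lemma nl_mem_gen {l : List idx} (hl : ∀ a ∈ l, a ∈ D.simple) : D.nl l ∈ D.gen := by
  refine list_prod_mem ?_
  intro x hx
  obtain ⟨a, ha, rfl⟩ := List.mem_map.1 hx
  exact Subgroup.subset_closure (Or.inr ⟨a, hl a ha, rfl⟩)

omit [Fintype idx] in
/-- if every root can be moved to a negative one by simple reflections then the group `gen` contains all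
root subgroups -/
lemma U_le_gen (hconj : ∀ c, ∃ l : List idx, (∀ a ∈ l, a ∈ D.simple) ∧ (D.wl l)⁻¹ c ∈ D.neg)
    (c : idx) : D.U c ≤ D.gen := by
  intro x hx
  obtain ⟨l, hl, hc⟩ := hconj c
  have h1 := D.U_le_Um _ hc (D.nl_inv_U l c x hx)
  have h2 : (D.nl l)⁻¹ * x * D.nl l ∈ D.gen := Subgroup.subset_closure (Or.inl (Or.inl h1))
  have h3 : x = D.nl l * ((D.nl l)⁻¹ * x * D.nl l) * (D.nl l)⁻¹ := by group
  rw [h3]
  exact D.gen.mul_mem (D.gen.mul_mem (D.nl_mem_gen hl) h2) (D.gen.inv_mem (D.nl_mem_gen hl))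

omit [Fintype idx] in
lemma T_le_gen : D.T ≤ D.gen := fun _ hx => Subgroup.subset_closure (Or.inl (Or.inr hx))

/-- every element of `gen` is in `X` -/
lemma gen_subset_X {g : Γ} (hg : g ∈ D.gen) : g ∈ D.X := by
  have := D.gen_mul_X hg D.one_mem_X
  rwa [mul_one] at this

/-- **Abstract Bruhat decomposition**: the refined form of an element of `X`. -/
theorem exists_refined {g : Γ} (hg : g ∈ D.X) : ∃ l : List idx, ∀ e e' : List idx, e.Nodup →
    e'.Nodup → (∀ a, a ∈ e ↔ a ∈ D.neg ∧ (D.wl l)⁻¹ a ∈ D.neg) → (∀ a, a ∈ e' ↔ a ∉ D.neg) →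
    ∃ y ∈ PL D.U e, ∃ t ∈ D.T, ∃ v ∈ PL D.U e', g = y * D.nl l * t * v := by
  obtain ⟨u, hu, l, t, ht, v, hv, rfl⟩ := hg
  refine ⟨l, fun e e' he he' hem hem' => ?_⟩
  obtain ⟨L, hL, hL'⟩ := exists_list {a | a ∈ D.neg ∧ (D.wl l)⁻¹ a ∉ D.neg}
  have h1 : (e ++ L).Nodup := by
    rw [List.nodup_append]
    refine ⟨he, hL, ?_⟩
    rintro c hc c' hc' rfl
    exact ((hL' c).1 hc').2 ((hem c).1 hc).2
  have h2 : ∀ c, c ∈ e ++ L ↔ c ∈ D.neg := by
    intro c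
    rw [List.mem_append, hem, hL', Set.mem_ofPred_eq]
    tauto
  obtain ⟨y, hy, z, hz, rfl⟩ := mem_PL_append.1 (D.Um_ord _ h1 h2 u hu)
  have h3 : (D.nl l)⁻¹ * z * (D.nl l)⁻¹⁻¹ ∈ D.Up := by
    refine PL_conj (fun c hc x hx => ?_) hz
    have hc' := (hL' c).1 hc
    rw [inv_inv]
    exact D.U_le_Up _ hc'.2 (D.nl_inv_U l c x hx)
  have h4 := D.T_Up t⁻¹ (D.T.inv_mem ht) _ h3
  refine ⟨y, hy, t, ht, _, D.Up_ord e' he' hem' _ (D.Up.mul_mem h4 hv), ?_⟩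
  group

/-- **Translates of the big cell**: an element of `X` is `n_l u t v` with `u ∈ U⁻`, `v ∈ U⁺`, products in
any order. -/
theorem exists_translate {g : Γ} (hg : g ∈ D.X) : ∃ l : List idx, ∀ e e' : List idx, e.Nodup →
    e'.Nodup → (∀ a, a ∈ e ↔ a ∈ D.neg) → (∀ a, a ∈ e' ↔ a ∉ D.neg) →
    ∃ y ∈ PL D.U e, ∃ t ∈ D.T, ∃ v ∈ PL D.U e', g = D.nl l * y * t * v := by
  obtain ⟨l, h⟩ := D.exists_refined hg
  refine ⟨l, fun e e' he he' hem hem' => ?_⟩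
  obtain ⟨L, hL, hL'⟩ := exists_list {a | a ∈ D.neg ∧ (D.wl l)⁻¹ a ∈ D.neg}
  obtain ⟨y, hy, t, ht, v, hv, rfl⟩ := h L e' hL he' hL' hem'
  have h3 : (D.nl l)⁻¹ * y * (D.nl l)⁻¹⁻¹ ∈ D.Um := by
    refine PL_conj (fun c hc x hx => ?_) hy
    have hc' := (hL' c).1 hc
    rw [inv_inv]
    exact D.U_le_Um _ hc'.2 (D.nl_inv_U l c x hx)
  refine ⟨_, D.Um_ord e he hem _ h3, t, ht, v, hv, ?_⟩
  group

end BData

end Groth.Agent.RedSub.H637.BruhatAbs
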