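import Groth.Agent.RedSub.H637.BruhatAbs
import Groth.Agent.Sga3B.PinAsm884

/-!
# Bruhat decomposition over algebraically closed fields, functor-of-points form

`Hyp D P b`: a good datum with root pairing `P` and base `b`.  For points `n a` acting on the torus by the
reflections, every point over an algebraically closed field is in some `U⁻_w n_w T U⁺`, and `w` is unique.
-/

set_option autoImplicit false
universe u

open Polynomial TensorProduct LaurentPolynomial

namespace Groth.Agent.RedSub.H637.BruhatDatum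

open Groth.Agent.Sga3B Groth.Agent.Sga3B.Cell Groth.Agent.Sga3B.Cell.Datum BruhatAbs

variable {R A : Type u} [CommRing R] [CommRing A] [Algebra R A] [PtGrp R A]

/-- hypotheses on a datum -/
structure Hyp (D : Datum R A) (P : RootPairing D.idx ℤ D.M (Module.Dual ℤ D.M)) (b : P.Base) :
    Prop where
  hP : ∀ a, P.root a = D.root a
  hpe : P.toLinearMap = Module.Dual.eval ℤ D.M
  good : D.Good
  ft : Algebra.FiniteType R A
  dom : ∀ (K : Type u) [Field K] [Algebra R K], IsDomain (K ⊗[R] A)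

variable (D : Datum R A) {B : Type u} [CommRing B] [Algebra R B]

/-- the root subgroup -/
def Usub (B : Type u) [CommRing B] [Algebra R B] (a : D.idx) : Subgroup (Pt R A B) where
  carrier := Set.range (D.uu a B)
  mul_mem' := by rintro _ _ ⟨x, rfl⟩ ⟨y, rfl⟩; exact ⟨x + y, D.uu_add a x y⟩
  one_mem' := ⟨0, D.uu_zero a⟩
  inv_mem' := by rintro _ ⟨x, rfl⟩; exact ⟨-x, D.uu_neg a x⟩

lemma mem_Usub {a : D.idx} {g : Pt R A B} : g ∈ Usub D B a ↔ ∃ x, D.uu a B x = g := Iff.rfl

lemma prod_mem_PL (L : List D.idx) (y : D.idx → B) :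
    (L.map (fun a => D.uu a B (y a))).prod ∈ PL (Usub D B) L := by
  induction L with
  | nil => rfl
  | cons a L ih =>
    rw [List.map_cons, List.prod_cons]
    exact ⟨_, ⟨y a, rfl⟩, _, ih, rfl⟩

lemma exists_ofFn_of_mem_PL : ∀ {k : ℕ} (e : Fin k → D.idx) {g : Pt R A B},
    g ∈ PL (Usub D B) (List.ofFn e) →
      ∃ y : Fin k → B, g = (List.ofFn fun j => D.uu (e j) B (y j)).prod
  | 0, e, g, hg => ⟨fun _ => 0, by simpa [mem_PL_nil] using hg⟩
  | k + 1, e, g, hg => by
    rw [List.ofFn_succ] at hg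
    obtain ⟨_, ⟨x, rfl⟩, z, hz, rfl⟩ := hg
    obtain ⟨y, rfl⟩ := exists_ofFn_of_mem_PL (fun j => e j.succ) hz
    refine ⟨Fin.cons x y, ?_⟩
    rw [List.ofFn_succ, List.prod_cons, Fin.cons_zero]
    simp only [Fin.cons_succ]

lemma mem_PL_ofFn : ∀ {k : ℕ} (e : Fin k → D.idx) (y : Fin k → B),
    (List.ofFn fun j => D.uu (e j) B (y j)).prod ∈ PL (Usub D B) (List.ofFn e)
  | 0, e, y => by
    rw [List.ofFn_zero, List.ofFn_zero]
    rfl
  | k + 1, e, y => by
    rw [List.ofFn_succ, List.ofFn_succ, List.prod_cons]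
    exact ⟨_, ⟨y 0, rfl⟩, _, mem_PL_ofFn (fun j => e j.succ) (fun j => y j.succ), rfl⟩

/-- the subgroup of products of root group elements of positive weight, in any order -/
theorem exists_UPgrp {D : Datum R A} (hG : D.Good) (lam : D.M →+ ℤ) (B : Type u) [CommRing B]
    [Algebra R B] :
    ∃ H : Subgroup (Pt R A B),
      (∀ (L : List D.idx), L.Nodup → (∀ a, a ∈ L ↔ 0 < lam (D.root a)) →
        ∀ g ∈ H, g ∈ PL (Usub D B) L) ∧
      (∀ a, 0 < lam (D.root a) → Usub D B a ≤ H) ∧
      ∀ (L : List D.idx), L.Nodup → (∀ a, a ∈ L) → ∀ g,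
        g ∈ H ↔ ∃ y : D.idx → B, (∀ a, lam (D.root a) ≤ 0 → y a = 0) ∧ g = D.cell L y 1 := by
  classical
  set k : D.idx → ℤ := fun a => lam (D.root a) with hk
  have hθ : ∀ a, TPt.ch (D.root a) (D.cochar lam : TPt D.M B[T;T⁻¹]) = T (k a) := fun a => rfl
  set L₀ := D.signList k
  obtain ⟨δ, hδ, hδ0⟩ := hG L₀ (D.signList_nodup k) (D.mem_signList k)
  have hone : (1 : Pt R A B) ∈ D.UP L₀ k B := ⟨fun _ => 0, fun _ _ => rfl, by
    rw [cell_zero, map_one]⟩
  let H : Subgroup (Pt R A B) :=
    { carrier := D.UP L₀ k B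
      mul_mem' := fun h h' => UP_mul hδ hδ0 hθ h h'
      one_mem' := hone
      inv_mem' := fun h => UP_inv hδ hδ0 hθ h }
  have hind : ∀ (L : List D.idx), L.Nodup → (∀ a, a ∈ L) → ∀ g, g ∈ H ↔ g ∈ D.UP L k B := by
    intro L hL hL' g
    obtain ⟨δ', hδ', hδ0'⟩ := hG L hL hL'
    exact (mem_UP_iff hδ hδ0 hθ).trans (mem_UP_iff hδ' hδ0' hθ).symm
  refine ⟨H, ?_, ?_, fun L hL hL' g => hind L hL hL' g⟩
  · intro L hL hL' g hg
    set L' : List D.idx := (Finset.univ.filter (fun a => ¬ 0 < k a)).toList with hL'def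
    have h1 : (L ++ L').Nodup := by
      rw [List.nodup_append]
      refine ⟨hL, Finset.nodup_toList _, ?_⟩
      rintro a ha c hc rfl
      rw [hL'def, Finset.mem_toList, Finset.mem_filter] at hc
      exact hc.2 ((hL' a).1 ha)
    have h2 : ∀ a, a ∈ L ++ L' := by
      intro a
      rw [List.mem_append, hL', hL'def, Finset.mem_toList, Finset.mem_filter]
      by_cases h : 0 < lam (D.root a)
      · exact Or.inl h
      · exact Or.inr ⟨Finset.mem_univ a, h⟩
    obtain ⟨y, hy, rfl⟩ := (hind _ h1 h2 g).1 hg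
    have h3 : (L'.map (fun a => D.uu a B (y a))).prod = 1 := by
      apply List.prod_eq_one
      intro z hz
      obtain ⟨a, ha, rfl⟩ := List.mem_map.1 hz
      rw [hL'def, Finset.mem_toList, Finset.mem_filter] at ha
      rw [hy a (not_lt.1 ha.2), D.uu_zero]
    rw [cell, List.map_append, List.prod_append, h3, mul_one, map_one, mul_one]
    exact prod_mem_PL D L y
  · rintro a ha _ ⟨x, rfl⟩
    have h1 : ∀ c ∈ L₀, c ≠ a → (Pi.single a x : D.idx → B) c = 0 := fun c _ hc => by simp [hc]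
    refine ⟨Pi.single a x, ?_, ?_⟩
    · intro c hc
      have : c ≠ a := by
        rintro rfl
        exact absurd ha (not_lt.2 hc)
      simp [this]
    · rw [cell, prod_single D (D.signList_nodup k) (D.mem_signList k a) h1, map_one, mul_one]
      simp

section action

variable {D}

/-- `n` acts on the torus by `s`, on points -/
def ActsE (n : Pt R A R) (s : D.M ≃+ D.M) : Prop :=
  ∀ {B : Type u} [CommRing B] [Algebra R B] (t : TPt D.M B),
    bp B n * D.i B t = D.i B (TPt.act s t) * bp B n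

lemma ActsE.of_acts {n : Pt R A R} {s : D.M ≃+ D.M} (h : D.Acts n s.toAddMonoidHom) :
    ActsE n s := fun _ => h fun _ => rfl

lemma ActsE.conj {n : Pt R A R} {s : D.M ≃+ D.M} (h : ActsE n s) (t : TPt D.M B) :
    bp B n * D.i B t * (bp B n)⁻¹ = D.i B (TPt.act s t) := by
  rw [h t, mul_inv_cancel_right]

lemma bp_mul (n n' : Pt R A R) : bp B (n * n') = bp B n * bp B n' := Pt.map_mul _ _ _

lemma bp_one : bp B (1 : Pt R A R) = 1 := Pt.map_one _

lemma bp_list_prod (l : List (Pt R A R)) : bp B l.prod = (l.map (bp B)).prod :=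
  Pt.map_list_prod _ _

lemma ActsE.mul {n n' : Pt R A R} {s s' : D.M ≃+ D.M} (h : ActsE n s) (h' : ActsE n' s') :
    ActsE (n * n') (s.trans s') := by
  intro B _ _ t
  rw [bp_mul, mul_assoc, h' t, ← mul_assoc, h, mul_assoc]
  rfl

lemma ActsE.one : ActsE (D := D) (1 : Pt R A R) (AddEquiv.refl D.M) := by
  intro B _ _ t
  rw [bp_one, one_mul, mul_one]
  rfl

end action

section words

variable {D} {P : RootPairing D.idx ℤ D.M (Module.Dual ℤ D.M)}

/-- the action of a word on characters (inverse of the Weyl group element of the word) -/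
def sig (P : RootPairing D.idx ℤ D.M (Module.Dual ℤ D.M)) : List D.idx → (D.M ≃+ D.M)
  | [] => AddEquiv.refl _
  | a :: l => (P.reflection a).toAddEquiv.trans (sig P l)

/-- the Weyl group element of a word as a permutation of the roots -/
def wl (P : RootPairing D.idx ℤ D.M (Module.Dual ℤ D.M)) (l : List D.idx) : Equiv.Perm D.idx :=
  (l.map P.reflectionPerm).prod

lemma reflectionPerm_inv (P : RootPairing D.idx ℤ D.M (Module.Dual ℤ D.M)) (a : D.idx) :
    (P.reflectionPerm a)⁻¹ = P.reflectionPerm a := by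
  rw [inv_eq_iff_mul_eq_one]
  ext c
  apply P.root.injective
  simp

lemma root_wl_inv (l : List D.idx) (c : D.idx) :
    P.root ((wl P l)⁻¹ c) = sig P l (P.root c) := by
  induction l generalizing c with
  | nil => simp [wl, sig]
  | cons a l ih =>
    have h1 : wl P (a :: l) = P.reflectionPerm a * wl P l := by simp [wl]
    rw [h1, mul_inv_rev, Equiv.Perm.mul_apply, ih, reflectionPerm_inv, P.root_reflectionPerm]
    rfl

lemma wl_eq_of_sig_eq {l l' : List D.idx} (h : sig P l = sig P l') : wl P l = wl P l' := by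
  rw [← inv_inj]
  ext c
  apply P.root.injective
  rw [root_wl_inv, root_wl_inv, h]

lemma actsE_list {n : D.idx → Pt R A R} (hn : ∀ a, ActsE (n a) (P.reflection a).toAddEquiv)
    (l : List D.idx) : ActsE ((l.map n).prod) (sig P l) := by
  induction l with
  | nil => exact ActsE.one
  | cons a l ih =>
    rw [List.map_cons, List.prod_cons]
    exact ActsE.mul (hn a) ih

end words

section bdata

variable {D} {P : RootPairing D.idx ℤ D.M (Module.Dual ℤ D.M)} {b : P.Base}

lemma Hyp.isReduced (_ : Hyp D P b) : P.IsReduced := PinComb.isReduced b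

/-- a functional on characters with the signs of the height -/
lemma Hyp.exists_lam (H : Hyp D P b) : ∃ lam : D.M →+ ℤ,
    (∀ a, 0 < lam (D.root a) ↔ b.IsPos a) ∧ ∀ a, lam (D.root a) < 0 ↔ ¬ b.IsPos a := by
  obtain ⟨lam, N, hN, hlam⟩ := PinComb.exists_height_functional b
  refine ⟨lam, fun a => ?_, fun a => ?_⟩
  · rw [← H.hP, hlam, RootPairing.Base.isPos_iff]
    exact ⟨fun h => by by_contra h'; push Not at h'; nlinarith, fun h => by positivity⟩
  · rw [← H.hP, hlam, RootPairing.Base.isPos_iff']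
    constructor
    · intro h h'; nlinarith
    · intro h; push Not at h; nlinarith

lemma root_opp (P : RootPairing D.idx ℤ D.M (Module.Dual ℤ D.M)) (a : D.idx) :
    P.root (P.reflectionPerm a a) = - P.root a := by simp

lemma opp_opp (P : RootPairing D.idx ℤ D.M (Module.Dual ℤ D.M)) (a : D.idx) :
    P.reflectionPerm a (P.reflectionPerm a a) = a := by
  apply P.root.injective
  rw [P.root_reflectionPerm, root_opp, map_neg, P.reflection_apply_self, neg_neg]

lemma refl_opp (P : RootPairing D.idx ℤ D.M (Module.Dual ℤ D.M)) (a c : D.idx) :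
    P.reflectionPerm a (P.reflectionPerm c c) =
      P.reflectionPerm (P.reflectionPerm a c) (P.reflectionPerm a c) := by
  apply P.root.injective
  rw [root_opp, P.root_reflectionPerm, root_opp, map_neg, P.root_reflectionPerm]

lemma isPos_opp (b : P.Base) (a : D.idx) : b.IsPos (P.reflectionPerm a a) ↔ ¬ b.IsPos a :=
  RootPairing.Base.IsPos.neg_iff_not b a

/-- conjugation of root group elements by the representatives -/
lemma Hyp.exists_conj (H : Hyp D P b) {n : Pt R A R} {a : D.idx}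
    (hn : ActsE n (P.reflection a).toAddEquiv) (c : D.idx) : ∃ r : Rˣ,
    ∀ {B : Type u} [CommRing B] [Algebra R B] (x : B),
      bp B n * D.uu c B x * (bp B n)⁻¹ = D.uu (P.reflectionPerm a c) B (algebraMap R B r * x) :=
  pin_conj_of P H.hP b H.good (fun B _ _ => bp B n) (fun φ => map_bp φ n) a (fun t => hn.conj t) c

lemma Hyp.conj_mem (H : Hyp D P b) {n : Pt R A R} {a : D.idx}
    (hn : ActsE n (P.reflection a).toAddEquiv) (c : D.idx) (x : Pt R A B) (hx : x ∈ Usub D B c) :
    bp B n * x * (bp B n)⁻¹ ∈ Usub D B (P.reflectionPerm a c) := by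
  obtain ⟨y, rfl⟩ := hx
  obtain ⟨r, hr⟩ := H.exists_conj hn c
  rw [hr]
  exact ⟨_, rfl⟩

lemma Hyp.conj_mem' (H : Hyp D P b) {n : Pt R A R} {a : D.idx}
    (hn : ActsE n (P.reflection a).toAddEquiv) (c : D.idx) (x : Pt R A B) (hx : x ∈ Usub D B c) :
    (bp B n)⁻¹ * x * bp B n ∈ Usub D B ((P.reflectionPerm a)⁻¹ c) := by
  obtain ⟨y, rfl⟩ := hx
  obtain ⟨r, hr⟩ := H.exists_conj hn ((P.reflectionPerm a)⁻¹ c)
  refine ⟨algebraMap R B ((r⁻¹ : Rˣ) : R) * y, ?_⟩
  have h1 := hr (algebraMap R B ((r⁻¹ : Rˣ) : R) * y)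
  rw [← mul_assoc, ← map_mul, Units.mul_inv, map_one, one_mul] at h1
  have h2 : P.reflectionPerm a ((P.reflectionPerm a)⁻¹ c) = c := (P.reflectionPerm a).apply_symm_apply c
  rw [h2] at h1
  rw [← h1]
  group

omit [Algebra R B] in
lemma act_refl_refl (a : D.idx) (t : TPt D.M B) :
    TPt.act (P.reflection a).toAddEquiv (TPt.act (P.reflection a).toAddEquiv t) = t := by
  apply TPt.ext_ch
  intro m
  rw [TPt.ch_act, TPt.ch_act]
  congr 1
  exact P.reflection_same a m

variable {K : Type u} [Field K] [IsAlgClosed K] [Algebra R K]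

/-- points acting trivially on the torus are in the torus -/
lemma Hyp.exists_eq_i (H : Hyp D P b) (h : Pt R A K)
    (hh : ∀ t : TPt D.M K[T;T⁻¹], Pt.map (lC R K) h * D.i _ t * (Pt.map (lC R K) h)⁻¹ = D.i _ t) :
    ∃ t : TPt D.M K, h = D.i K t := by
  have := H.ft
  have := H.dom K
  obtain ⟨lam, h1, h2⟩ := H.exists_lam
  obtain ⟨t, ht, -⟩ := exists_eq_i_of_conj (D := D) H.good lam (fun a h0 => by
    by_cases ha : b.IsPos a
    · exact absurd h0 ((h1 a).2 ha).ne'
    · exact absurd h0 ((h2 a).2 ha).ne) h (θ' := D.cochar lam) (fun a => rfl) (hh _)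
  exact ⟨t, ht⟩

/-- the square of a representative of a reflection is in the torus -/
lemma Hyp.n_sq (H : Hyp D P b) {n : Pt R A R} {a : D.idx}
    (hn : ActsE n (P.reflection a).toAddEquiv) : ∃ t : TPt D.M K, bp K n * bp K n = D.i K t := by
  apply H.exists_eq_i
  intro t
  rw [Pt.map_mul, map_bp]
  have h1 : bp K[T;T⁻¹] n * bp K[T;T⁻¹] n * D.i _ t * (bp K[T;T⁻¹] n * bp K[T;T⁻¹] n)⁻¹ =
      bp K[T;T⁻¹] n * (bp K[T;T⁻¹] n * D.i _ t * (bp K[T;T⁻¹] n)⁻¹) * (bp K[T;T⁻¹] n)⁻¹ := by
    group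
  rw [h1, hn.conj, hn.conj, act_refl_refl]

omit [IsAlgClosed K] in
/-- rank one: a nontrivial element of `U_a` is in `U_{-a} n_a T U_{-a}` -/
lemma Hyp.rank1 (H : Hyp D P b) {n : Pt R A R} {a : D.idx} (ha : a ∈ b.support)
    (hn : ActsE n (P.reflection a).toAddEquiv) {x : K} (hx : x ≠ 0) :
    ∃ (v v' : K) (t : TPt D.M K), D.uu a K x =
      D.uu (P.reflectionPerm a a) K v * bp K n * D.i K t * D.uu (P.reflectionPerm a a) K v' := by
  have := H.ft
  obtain ⟨I, hI, hI'⟩ := PinAsm884.exists_cellIdeal P H.hP b H.good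
  have HR := PinAsm884.rankOneHyp P H.hP b H.good H.hpe H.dom ha (I := I) (fun g => hI' g) n
    (fun t => hn.conj t)
  obtain ⟨p, q, t₀, h⟩ := HR.exists_pq
  obtain ⟨r, hr⟩ := HR.exists_conj
  obtain ⟨p, rfl⟩ := HR.isUnit_p h
  have he : -q * (r⁻¹ : Rˣ) = 1 := by
    have h1 := HR.rel_gen h hr (B := R) 1 0 1 (by simp)
    have hc1 : TPt.cow (P.coroot a) (1 : Rˣ) = 1 := by
      apply TPt.ext_ch
      intro m
      rw [TPt.ch_cow, one_zpow]
      rfl
    rw [mul_zero, D.uu_zero, hc1, i_one', mul_one, one_mul, one_mul] at h1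
    have h2 := D.uu_inj a h1
    simpa using h2.symm
  have hq : algebraMap R K q ≠ 0 := by
    intro hq
    have h1 := congrArg (algebraMap R K) he
    rw [map_mul, map_neg, hq, neg_zero, zero_mul, map_one] at h1
    exact zero_ne_one h1
  have hy : x / algebraMap R K q ≠ 0 := div_ne_zero hx hq
  have h1 := h (Units.mk0 _ hy)
  rw [Units.val_mk0, mul_div_cancel₀ _ hq] at h1
  set s := TPt.map (Algebra.ofId R K) t₀ * TPt.cow (P.coroot a) (Units.mk0 _ hy) with hs
  set a' := P.reflectionPerm a a with ha'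
  set v : K := algebraMap R K p * (((Units.mk0 _ hy)⁻¹ : Kˣ) : K) with hv
  have h2 : D.uu a K x = (D.uu a' K v)⁻¹ * (bp K n * D.uu a' K (x / algebraMap R K q)) *
      (D.i K s)⁻¹ := by
    rw [h1]; group
  have h3 := D.rel a' s (x / algebraMap R K q)
  refine ⟨-v, TPt.ch (D.root a') s * (x / algebraMap R K q), s⁻¹, ?_⟩
  rw [h2, ← h3, D.uu_neg, i_inv']
  group

/-- the data for the abstract Bruhat decomposition -/
theorem Hyp.exists_bData (H : Hyp D P b) (n : D.idx → Pt R A R)
    (hn : ∀ a, ActsE (n a) (P.reflection a).toAddEquiv) (K : Type u) [Field K] [IsAlgClosed K]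
    [Algebra R K] : ∃ E : BData (Pt R A K) D.idx, E.T = (D.i K).range ∧ E.U = Usub D K ∧
      E.neg = {a | ¬ b.IsPos a} ∧ E.n = (fun a => bp K (n a)) ∧ E.s = P.reflectionPerm ∧
      E.simple = b.support := by
  classical
  have hred := H.isReduced
  obtain ⟨lam, hlam1, hlam2⟩ := H.exists_lam
  obtain ⟨Up, hUp1, hUp2, -⟩ := exists_UPgrp H.good lam K
  obtain ⟨Um, hUm1, hUm2, -⟩ := exists_UPgrp H.good (-lam) K
  have hneg : ∀ a, 0 < (-lam) (D.root a) ↔ ¬ b.IsPos a := by
    intro a
    rw [← hlam2, AddMonoidHom.neg_apply]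
    omega
  refine ⟨{ T := (D.i K).range
            U := Usub D K
            Um := Um
            Up := Up
            neg := {a | ¬ b.IsPos a}
            n := fun a => bp K (n a)
            s := P.reflectionPerm
            simple := b.support
            opp := fun a => P.reflectionPerm a a
            T_U := ?_
            T_n := ?_
            T_n' := ?_
            n_sq := fun a => ?_
            n_U := fun a c x hx => H.conj_mem (hn a) c x hx
            n_U' := fun a c x hx => H.conj_mem' (hn a) c x hx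
            rank1 := ?_
            s_opp_self := opp_opp P
            s_opp := fun a c => by rw [reflectionPerm_inv, refl_opp]
            neg_opp := fun c => not_congr (isPos_opp b c)
            Um_ord := fun L hL hL' => hUm1 L hL (fun a => (hL' a).trans (hneg a).symm)
            U_le_Um := fun a ha => hUm2 a ((hneg a).2 ha)
            U_le_Up := fun a ha => hUp2 a ((hlam1 a).2 (not_not.1 ha))
            Up_ord := fun L hL hL' => hUp1 L hL (fun a => (hL' a).trans
              ((not_not (a := b.IsPos a)).trans (hlam1 a).symm))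
            simple_pos := fun a ha => not_not.2 (RootPairing.Base.isPos_of_mem_support ha)
            s_neg := ?_ }, rfl, rfl, rfl, rfl, rfl, rfl⟩
  · rintro _ ⟨t, rfl⟩ a _ ⟨x, rfl⟩
    rw [D.rel]
    exact ⟨_, rfl⟩
  · rintro a _ ⟨t, rfl⟩
    rw [ActsE.conj (hn a)]
    exact ⟨_, rfl⟩
  · rintro a _ ⟨t, rfl⟩
    refine ⟨TPt.act (P.reflection a).toAddEquiv t, ?_⟩
    have h1 := ActsE.conj (hn a) (TPt.act (P.reflection a).toAddEquiv t)
    rw [act_refl_refl] at h1
    rw [← h1]
    group
  · obtain ⟨t, ht⟩ := H.n_sq (K := K) (hn a)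
    rw [ht]
    exact ⟨_, rfl⟩
  · rintro a ha _ ⟨x, rfl⟩ hx
    have hx0 : x ≠ 0 := by
      rintro rfl
      exact hx (D.uu_zero a)
    obtain ⟨v, v', t, h⟩ := H.rank1 ha (hn a) hx0
    exact ⟨_, ⟨v, rfl⟩, _, ⟨t, rfl⟩, _, ⟨v', rfl⟩, h⟩
  · intro a ha c hc hca h
    apply hc
    have h1 : P.reflectionPerm a c ≠ a := by
      intro h2
      apply hca
      rw [← reflectionPerm_inv P a, Equiv.Perm.inv_eq_iff_eq] at h2
      exact h2
    have h2 := h.reflectionPerm ha h1
    have h3 : P.reflectionPerm a (P.reflectionPerm a c) = c := by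
      apply P.root.injective
      simp
    rwa [h3] at h2

lemma foldr_eq_wl (l : List D.idx) (a : D.idx) :
    l.foldr (fun c j => P.reflectionPerm c j) a = wl P l a := by
  induction l with
  | nil => rfl
  | cons c l ih =>
    rw [List.foldr_cons, ih]
    simp [wl]

/-- everything is in the subgroup generated by `U⁻`, `T` and the simple reflections -/
theorem Hyp.mem_X (H : Hyp D P b) {K : Type u} [Field K] [IsAlgClosed K]
    [Algebra R K] (E : BData (Pt R A K) D.idx) (hT : E.T = (D.i K).range) (hU : E.U = Usub D K)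
    (hneg : E.neg = {a | ¬ b.IsPos a})
    (hs : E.s = P.reflectionPerm) (hsimple : E.simple = b.support) (g : Pt R A K) : g ∈ E.X := by
  classical
  apply E.gen_subset_X
  have hwl : ∀ l, E.wl l = wl P l := fun l => by rw [BData.wl, hs, wl]
  have hUg : ∀ c, E.U c ≤ E.gen := by
    refine E.U_le_gen fun c => ?_
    obtain ⟨l, a, ha, hl, hc⟩ := PinComb.exists_word b c
    refine ⟨l ++ [a], ?_, ?_⟩
    · intro d hd
      rw [hsimple]
      rcases List.mem_append.1 hd with h | h
      · exact hl d h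
      · rw [List.mem_singleton.1 h]
        exact ha
    · rw [hwl, hneg, hc, foldr_eq_wl]
      have h1 : wl P (l ++ [a]) = wl P l * P.reflectionPerm a := by simp [wl]
      have h2 : (wl P l)⁻¹ (wl P l a) = a := (wl P l).symm_apply_apply a
      rw [h1, mul_inv_rev, Equiv.Perm.mul_apply, h2, reflectionPerm_inv]
      exact fun h => (isPos_opp b a).1 h (RootPairing.Base.isPos_of_mem_support ha)
  have hcell : ∀ (L : List D.idx) (x : D.idx → K) (t : TPt D.M K), D.cell L x t ∈ E.gen := by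
    intro L x t
    refine E.gen.mul_mem (list_prod_mem fun y hy => ?_) (E.T_le_gen ?_)
    · obtain ⟨a, -, rfl⟩ := List.mem_map.1 hy
      refine hUg a ?_
      rw [hU]
      exact ⟨_, rfl⟩
    · rw [hT]
      exact ⟨_, rfl⟩
  have := H.ft
  have := H.dom K
  obtain ⟨δ, hδ, hδ0⟩ := H.good (allList b) (allList_nodup b) (mem_allList b)
  obtain ⟨x, x', t, t', -, -, hq⟩ := exists_quot hδ hδ0 g
  have h1 : g = D.cell (allList b) x' t' * (D.cell (allList b) x t)⁻¹ := by
    rw [← hq]; group
  rw [h1]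
  exact E.gen.mul_mem (hcell _ _ _) (E.gen.inv_mem (hcell _ _ _))

/-- **Bruhat decomposition over algebraically closed fields** (refined form, any orders). -/
theorem Hyp.exists_bruhat (H : Hyp D P b) (n : D.idx → Pt R A R)
    (hn : ∀ a, ActsE (n a) (P.reflection a).toAddEquiv) {K : Type u} [Field K] [IsAlgClosed K]
    [Algebra R K] (g : Pt R A K) : ∃ l : List D.idx, ∀ {k m : ℕ} (e : Fin k → D.idx)
      (e' : Fin m → D.idx), Function.Injective e → Function.Injective e' →
      (∀ a, a ∈ Set.range e ↔ ¬ b.IsPos a ∧ ¬ b.IsPos ((wl P l)⁻¹ a)) →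
      (∀ a, a ∈ Set.range e' ↔ b.IsPos a) →
      ∃ (y : Fin k → K) (t : TPt D.M K) (x : Fin m → K),
        g = (List.ofFn fun j => D.uu (e j) K (y j)).prod * ((l.map fun a => bp K (n a)).prod *
          (D.i K t * (List.ofFn fun j => D.uu (e' j) K (x j)).prod)) := by
  obtain ⟨E, hT, hU, hneg, hn', hs, hsimple⟩ := H.exists_bData n hn K
  obtain ⟨l, hl⟩ := E.exists_refined (H.mem_X E hT hU hneg hs hsimple g)
  have hwl : E.wl l = wl P l := by rw [BData.wl, hs, wl]
  have hnl : E.nl l = (l.map fun a => bp K (n a)).prod := by rw [BData.nl, hn']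
  refine ⟨l, fun e e' he he' hem hem' => ?_⟩
  obtain ⟨y, hy, t, ht, v, hv, hg⟩ := hl (List.ofFn e) (List.ofFn e')
    (List.nodup_ofFn.2 he) (List.nodup_ofFn.2 he') (fun a => by
      rw [List.mem_ofFn, ← Set.mem_range, hem, hneg, hwl]; rfl) (fun a => by
      rw [List.mem_ofFn, ← Set.mem_range, hem', hneg]; exact (not_not (a := b.IsPos a)).symm)
  rw [hU] at hy hv
  rw [hT] at ht
  obtain ⟨y, rfl⟩ := exists_ofFn_of_mem_PL D e hy
  obtain ⟨x, rfl⟩ := exists_ofFn_of_mem_PL D e' hv
  obtain ⟨t, rfl⟩ := ht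
  refine ⟨y, t, x, ?_⟩
  rw [hg, hnl]
  group

/-- **Covering by Weyl translates of the big cell over algebraically closed fields.** -/
theorem Hyp.exists_translate (H : Hyp D P b) (n : D.idx → Pt R A R)
    (hn : ∀ a, ActsE (n a) (P.reflection a).toAddEquiv) {K : Type u} [Field K] [IsAlgClosed K]
    [Algebra R K] (g : Pt R A K) : ∃ l : List D.idx, ∀ {k m : ℕ} (e : Fin k → D.idx)
      (e' : Fin m → D.idx), Function.Injective e → Function.Injective e' →
      (∀ a, a ∈ Set.range e ↔ ¬ b.IsPos a) → (∀ a, a ∈ Set.range e' ↔ b.IsPos a) →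
      ∃ (y : Fin k → K) (t : TPt D.M K) (x : Fin m → K),
        g = (l.map fun a => bp K (n a)).prod * ((List.ofFn fun j => D.uu (e j) K (y j)).prod *
          (D.i K t * (List.ofFn fun j => D.uu (e' j) K (x j)).prod)) := by
  obtain ⟨E, hT, hU, hneg, hn', hs, hsimple⟩ := H.exists_bData n hn K
  obtain ⟨l, hl⟩ := E.exists_translate (H.mem_X E hT hU hneg hs hsimple g)
  have hnl : E.nl l = (l.map fun a => bp K (n a)).prod := by rw [BData.nl, hn']
  refine ⟨l, fun e e' he he' hem hem' => ?_⟩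
  obtain ⟨y, hy, t, ht, v, hv, hg⟩ := hl (List.ofFn e) (List.ofFn e')
    (List.nodup_ofFn.2 he) (List.nodup_ofFn.2 he') (fun a => by
      rw [List.mem_ofFn, ← Set.mem_range, hem, hneg]; rfl) (fun a => by
      rw [List.mem_ofFn, ← Set.mem_range, hem', hneg]; exact (not_not (a := b.IsPos a)).symm)
  rw [hU] at hy hv
  rw [hT] at ht
  obtain ⟨y, rfl⟩ := exists_ofFn_of_mem_PL D e hy
  obtain ⟨x, rfl⟩ := exists_ofFn_of_mem_PL D e' hv
  obtain ⟨t, rfl⟩ := ht
  refine ⟨y, t, x, ?_⟩
  rw [hg, hnl]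
  group

end bdata

end Groth.Agent.RedSub.H637.BruhatDatum
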