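import Groth.Prelude.Def_RedSub

/-!
# `posRoots` / `negRoots` and Mathlib's `IsPos`
-/

set_option autoImplicit false

namespace Groth.Agent.RedSub.H637.PosRoots

variable {idx M N : Type} [AddCommGroup M] [AddCommGroup N]

lemma height_nonneg_of_mem [Finite idx] {P : RootPairing idx ℤ M N} (b : P.Base) {a : idx}
    (h : P.root a ∈ AddSubmonoid.closure (P.root '' (b.support : Set idx))) : 0 ≤ b.height a := by
  classical
  -- write the element of the closure as a nonnegative combination
  have key : ∀ m ∈ AddSubmonoid.closure (P.root '' (b.support : Set idx)),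
      ∃ f : idx → ℤ, (∀ i, 0 ≤ f i) ∧ m = ∑ j ∈ b.support, f j • P.root j := by
    intro m hm
    refine AddSubmonoid.closure_induction (motive := fun m _ => ∃ f : idx → ℤ, (∀ i, 0 ≤ f i) ∧
      m = ∑ j ∈ b.support, f j • P.root j) ?_ ?_ ?_ hm
    · rintro _ ⟨i, hi, rfl⟩
      refine ⟨Pi.single i 1, fun j => ?_, ?_⟩
      · by_cases h : j = i
        · subst h; simp
        · simp [h]
      · rw [Finset.sum_eq_single_of_mem i hi]
        · simp
        · intro j _ hj
          simp [hj]
    · exact ⟨0, fun _ => le_refl _, by simp⟩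
    · rintro x y _ _ ⟨f, hf, rfl⟩ ⟨g, hg, rfl⟩
      exact ⟨f + g, fun i => add_nonneg (hf i) (hg i), by
        simp [add_smul, Finset.sum_add_distrib]⟩
  obtain ⟨f, hf, h⟩ := key _ h
  rw [RootPairing.Base.height_eq_sum h]
  exact Finset.sum_nonneg fun i _ => hf i

variable [Finite idx] {P : RootPairing idx ℤ M N} (b : P.Base)

lemma mem_posRoots_iff (a : idx) : a ∈ RedSub.posRoots P b ↔ b.IsPos a := by
  constructor
  · intro h
    exact b.isPos_iff'.2 (height_nonneg_of_mem b h)
  · intro h
    rcases b.root_mem_or_neg_mem a with h1 | h1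
    · exact h1
    · exfalso
      have h2 : P.root (P.reflectionPerm a a) ∈
          AddSubmonoid.closure (P.root '' (b.support : Set idx)) := by
        have : P.root (P.reflectionPerm a a) = - P.root a := by simp
        rw [this]
        exact h1
      have h3 := height_nonneg_of_mem b h2
      have h4 : b.height (P.reflectionPerm a a) = - b.height a := b.height_reflectionPerm_self a
      have h5 : 0 < b.height a := h
      omega

lemma mem_negRoots_iff (a : idx) : a ∈ RedSub.negRoots P b ↔ ¬ b.IsPos a := by
  have h0 : P.root (P.reflectionPerm a a) = - P.root a := by simp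
  have h1 : a ∈ RedSub.negRoots P b ↔ P.reflectionPerm a a ∈ RedSub.posRoots P b := by
    unfold RedSub.negRoots RedSub.posRoots
    rw [Set.mem_ofPred_eq, Set.mem_ofPred_eq, h0]
  rw [h1, mem_posRoots_iff]
  exact RootPairing.Base.IsPos.neg_iff_not b a

lemma mem_negMeetNeg_iff (w : Equiv.Perm idx) (a : idx) :
    a ∈ RedSub.negMeetNeg P b w ↔ ¬ b.IsPos a ∧ ¬ b.IsPos (w⁻¹ a) := by
  change a ∈ RedSub.negRoots P b ∧ w.symm a ∈ RedSub.negRoots P b ↔ _
  rw [mem_negRoots_iff, mem_negRoots_iff]
  rfl

/-- every subset of a finite type has an enumeration -/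
lemma exists_enumerates (A : Set idx) : ∃ (k : ℕ) (e : Fin k → idx), RedSub.Enumerates A e := by
  classical
  have : Fintype A := Fintype.ofFinite A
  refine ⟨Fintype.card A, fun i => ((Fintype.equivFin A).symm i : idx), ?_, ?_⟩
  · exact Subtype.val_injective.comp (Fintype.equivFin A).symm.injective
  · ext a
    constructor
    · rintro ⟨i, rfl⟩
      exact Subtype.coe_prop _
    · intro ha
      exact ⟨Fintype.equivFin A ⟨a, ha⟩, by simp⟩

end Groth.Agent.RedSub.H637.PosRoots
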