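import Groth.Agent.RedSub.H637.BruhatUniq
import Groth.Agent.RedSub.H637.PosRoots
import Groth.Agent.RedSub.H636.CellPts
import Groth.Agent.Sga3B.ChartGood
import Mathlib.AlgebraicGeometry.PullbackCarrier
import Mathlib.AlgebraicGeometry.ResidueField

/-!
# Bruhat decomposition of a split reductive group scheme
-/

set_option autoImplicit false
universe u

open CategoryTheory MonoidalCategory CartesianMonoidalCategory MonObj GrpObj AlgebraicGeometry Limits
  TensorProduct

namespace Groth.Agent.RedSub.H637.BruhatMain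

open Groth.Agent.Sga3B Groth.Agent.Sga3B.Cell Groth.Agent.Sga3B.PinMod Groth.Agent.Sga3B.DSPts
  Groth.Agent.Sga3B.GaPts BruhatDatum Groth.Agent.RedSub.H636.CellPts

variable {S : Scheme.{u}} {G : Over S} [GrpObj G] (D : Red.SplitRed G) (b : D.P.Base)

/-- the hypotheses of the functor-of-points form hold in a chart -/
theorem hyp {R : Type u} [CommRing R] {s : Spec (CommRingCat.of R) ⟶ S} (c : Chart G s) :
    Hyp (c.datum D) D.P b where
  hP _ := rfl
  hpe := D.pairing_eq
  good := c.good D
  ft := c.finiteType D.reductive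
  dom K _ _ := c.geomDom D.reductive K

variable {nr : D.idx → (𝟙_ (Over S) ⟶ G)} (hnr : RedSub.RealisesReflections D nr)

include hnr in
theorem actsE {R : Type u} [CommRing R] {s : Spec (CommRingCat.of R) ⟶ S} (c : Chart G s)
    (a : D.idx) : ActsE (D := c.datum D) (secPt c R (nr a)) (D.P.reflection a).toAddEquiv :=
  ActsE.of_acts (acts_of_realises D c hnr a)

lemma bp_secPt {R : Type u} [CommRing R] {s : Spec (CommRingCat.of R) ⟶ S} (c : Chart G s)
    (B : Type u) [CommRing B] [Algebra R B] (n : 𝟙_ (Over S) ⟶ G) :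
    Datum.bp B (secPt c R n) = secPt c B n := map_secPt c _ n

/-- the geometric point of a scheme at `x` -/
noncomputable def gpt (X : Scheme.{u}) (x : X) :
    Spec (CommRingCat.of (AlgebraicClosure (X.residueField x))) ⟶ X :=
  Spec.map (CommRingCat.ofHom (algebraMap (X.residueField x)
    (AlgebraicClosure (X.residueField x)))) ≫ X.fromSpecResidueField x

lemma gpt_apply (X : Scheme.{u}) (x : X)
    (y : Spec (CommRingCat.of (AlgebraicClosure (X.residueField x)))) :
    gpt X x y = x := by
  rw [gpt, Scheme.Hom.comp_apply]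
  exact Scheme.fromSpecResidueField_apply x _

/-- the affine point over `s` of a morphism `p : Spec K ⟶ Z` with `p ≫ Z.hom = s` -/
noncomputable def ptOf {K : Type u} [CommRing K] {Z : Over S} (p : Spec (CommRingCat.of K) ⟶ Z.left)
    {s : Spec (CommRingCat.of K) ⟶ S} (hs : p ≫ Z.hom = s) : tB s K ⟶ Z :=
  Over.homMk p (by
    rw [hs]
    change s = Spec.map (CommRingCat.ofHom (algebraMap K K)) ≫ s
    have : CommRingCat.ofHom (algebraMap K K) = 𝟙 _ := rfl
    rw [this, Spec.map_id, Category.id_comp])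

include hnr in
/-- the cells cover -/
theorem cover {m : ℕ} (epos : Fin m → D.idx)
    (hpos : RedSub.Enumerates (RedSub.posRoots D.P b) epos) (x : ↥G.left) :
    ∃ (l : List D.idx) (k : ℕ) (e : Fin k → D.idx),
      RedSub.Enumerates (RedSub.negMeetNeg D.P b (RedSub.wordPerm D.P l)) e ∧
        x ∈ Set.range (RedSub.bruhatMap D nr l e epos).left.base := by
  have := D.reductive.1
  let K := AlgebraicClosure (G.left.residueField x)
  let p : Spec (CommRingCat.of K) ⟶ G.left := gpt G.left x
  let s : Spec (CommRingCat.of K) ⟶ S := p ≫ G.hom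
  obtain ⟨c⟩ := exists_chart G s
  let g₀ : tB s K ⟶ G := ptOf p rfl
  obtain ⟨(l : List D.idx), hl⟩ := (hyp D b c).exists_bruhat (fun a => secPt c K (nr a))
    (fun a => actsE D hnr c a) (K := K) ((c.pts K).symm g₀)
  obtain ⟨k, e, he⟩ := PosRoots.exists_enumerates
    (RedSub.negMeetNeg D.P b (RedSub.wordPerm D.P l))
  refine ⟨l, k, e, he, ?_⟩
  have hE : ∀ a : D.idx, a ∈ Set.range e ↔
      ¬ b.IsPos a ∧ ¬ b.IsPos ((RedSub.wordPerm D.P l)⁻¹ a) := fun a => by
    rw [he.2]
    exact PosRoots.mem_negMeetNeg_iff b _ a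
  have hE' : ∀ a : D.idx, a ∈ Set.range epos ↔ b.IsPos a := fun a => by
    rw [hpos.2]
    exact PosRoots.mem_posRoots_iff b a
  obtain ⟨y, t, z, h⟩ := hl e epos he.1 hpos.1 hE hE'
  have h1 := bruhatMap_chart D c nr l e epos y t z
  have h2 : (l.map fun a => Datum.bp K (secPt c K (nr a))) = l.map fun a => secPt c K (nr a) := by
    simp only [bp_secPt]
  have h' : (c.pts K).symm g₀ = (List.ofFn fun j => (c.datum D).uu (e j) K (y j)).prod *
      ((l.map (fun a => secPt c K (nr a))).prod *
      ((c.datum D).i K t * (List.ofFn fun j => (c.datum D).uu (epos j) K (z j)).prod)) := by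
    rw [← h2]
    exact h
  have h3 := congrArg (fun f => f.left)
    (h1.trans ((congrArg (c.pts K) h'.symm).trans (MulEquiv.apply_symm_apply _ g₀)))
  simp only [Over.comp_left] at h3
  let pt : ↥(Spec (CommRingCat.of K)) := IsLocalRing.closedPoint K
  refine ⟨(lift (powPt k (fun j => gaP s (y j))) (lift (tP D s t)
    (powPt m (fun j => gaP s (z j))))).left pt, ?_⟩
  rw [← Scheme.Hom.comp_apply, h3]
  exact gpt_apply G.left x pt

include hnr in
/-- the cells are disjoint -/
theorem disjoint {m : ℕ} (epos : Fin m → D.idx)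
    (hpos : RedSub.Enumerates (RedSub.posRoots D.P b) epos) (l l' : List D.idx) (k k' : ℕ)
    (e : Fin k → D.idx) (e' : Fin k' → D.idx) (x : ↥G.left)
    (he : RedSub.Enumerates (RedSub.negMeetNeg D.P b (RedSub.wordPerm D.P l)) e)
    (he' : RedSub.Enumerates (RedSub.negMeetNeg D.P b (RedSub.wordPerm D.P l')) e')
    (hx : x ∈ Set.range (RedSub.bruhatMap D nr l e epos).left.base)
    (hx' : x ∈ Set.range (RedSub.bruhatMap D nr l' e' epos).left.base) :
    RedSub.wordPerm D.P l = RedSub.wordPerm D.P l' := by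
  have := D.reductive.1
  obtain ⟨z, hz⟩ := hx
  obtain ⟨z', hz'⟩ := hx'
  obtain ⟨w, -, -⟩ := Scheme.Pullback.exists_preimage_pullback
    (f := (RedSub.bruhatMap D nr l e epos).left) (g := (RedSub.bruhatMap D nr l' e' epos).left)
    z z' (hz.trans hz'.symm)
  set f := (RedSub.bruhatMap D nr l e epos).left with hf
  set f' := (RedSub.bruhatMap D nr l' e' epos).left with hf'
  let K := (pullback f f').residueField w
  let p : Spec (CommRingCat.of K) ⟶ pullback f f' := (pullback f f').fromSpecResidueField w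
  let s : Spec (CommRingCat.of K) ⟶ S := (p ≫ pullback.fst f f') ≫
    (RedSub.pow (Red.Ga S) k ⊗ (D.T ⊗ RedSub.pow (Red.Ga S) m)).hom
  have hs' : (p ≫ pullback.snd f f') ≫
      (RedSub.pow (Red.Ga S) k' ⊗ (D.T ⊗ RedSub.pow (Red.Ga S) m)).hom = s := by
    have e1 : (RedSub.pow (Red.Ga S) k' ⊗ (D.T ⊗ RedSub.pow (Red.Ga S) m)).hom = f' ≫ G.hom :=
      (Over.w (RedSub.bruhatMap D nr l' e' epos)).symm
    have e2 : (RedSub.pow (Red.Ga S) k ⊗ (D.T ⊗ RedSub.pow (Red.Ga S) m)).hom = f ≫ G.hom :=
      (Over.w (RedSub.bruhatMap D nr l e epos)).symm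
    change _ = (p ≫ pullback.fst f f') ≫ _
    rw [e1, e2, Category.assoc, Category.assoc, pullback.condition_assoc]
  obtain ⟨c⟩ := exists_chart G s
  let q : tB s K ⟶ RedSub.pow (Red.Ga S) k ⊗ (D.T ⊗ RedSub.pow (Red.Ga S) m) :=
    ptOf (p ≫ pullback.fst f f') rfl
  let q' : tB s K ⟶ RedSub.pow (Red.Ga S) k' ⊗ (D.T ⊗ RedSub.pow (Red.Ga S) m) :=
    ptOf (p ≫ pullback.snd f f') hs'
  have hqq' : q ≫ RedSub.bruhatMap D nr l e epos = q' ≫ RedSub.bruhatMap D nr l' e' epos := by
    apply Over.OverMorphism.ext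
    rw [Over.comp_left, Over.comp_left]
    change (p ≫ pullback.fst f f') ≫ f = (p ≫ pullback.snd f f') ≫ f'
    rw [Category.assoc, Category.assoc, pullback.condition]
  obtain ⟨y, t, v, hq⟩ := exists_cell_coords D q
  obtain ⟨y', t', v', hq'⟩ := exists_cell_coords D q'
  choose Y hY using fun j => exists_gaP (y j)
  choose V hV using fun j => exists_gaP (v j)
  obtain ⟨τ, hτ⟩ := exists_tP D t
  choose Y' hY' using fun j => exists_gaP (y' j)
  choose V' hV' using fun j => exists_gaP (v' j)
  obtain ⟨τ', hτ'⟩ := exists_tP D t'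
  obtain rfl : y = fun j => gaP s (Y j) := funext hY
  obtain rfl : v = fun j => gaP s (V j) := funext hV
  obtain rfl : y' = fun j => gaP s (Y' j) := funext hY'
  obtain rfl : v' = fun j => gaP s (V' j) := funext hV'
  subst hτ hτ'
  rw [hq, hq', bruhatMap_chart D c nr l e epos, bruhatMap_chart D c nr l' e' epos] at hqq'
  have h := (c.pts K).injective hqq'
  have hb : ∀ l : List D.idx, (l.map fun a => secPt c K (nr a)).prod =
      Datum.bp K ((l.map fun a => secPt c K (nr a)).prod : Pt K c.A K) := by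
    intro l
    rw [bp_list_prod, List.map_map]
    congr 1
  rw [hb l, hb l'] at h
  have hneg : ∀ {l : List D.idx} {k : ℕ} {e : Fin k → D.idx},
      RedSub.Enumerates (RedSub.negMeetNeg D.P b (RedSub.wordPerm D.P l)) e →
      ∀ a ∈ List.ofFn e, ¬ b.IsPos a := by
    intro l k e he a ha
    rw [List.mem_ofFn, ← Set.mem_range, he.2, PosRoots.mem_negMeetNeg_iff] at ha
    exact ha.1
  have hp : ∀ a ∈ List.ofFn epos, b.IsPos a := by
    intro a ha
    rw [List.mem_ofFn, ← Set.mem_range, hpos.2, PosRoots.mem_posRoots_iff] at ha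
    exact ha
  exact (hyp D b c).bruhat_unique (fun a => secPt c K (nr a)) (fun a => actsE D hnr c a)
    (hneg he) (hneg he') hp hp (mem_PL_ofFn (c.datum D) e Y) (mem_PL_ofFn (c.datum D) e' Y')
    (mem_PL_ofFn (c.datum D) epos V) (mem_PL_ofFn (c.datum D) epos V') τ τ' h

end Groth.Agent.RedSub.H637.BruhatMain
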