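import Groth.Agent.RedSub.H637.BruhatDatum
import Groth.Agent.Sga3B.CellZ

/-!
# Uniqueness in the Bruhat decomposition, functor-of-points form

Over any nontrivial ring: if `u n_l t v = u' n_{l'} t' v'` with `u, u'` products of negative root group
elements and `v, v'` products of positive ones then the Weyl group elements of `l` and `l'` agree.
-/

set_option autoImplicit false
universe u

open Polynomial TensorProduct LaurentPolynomial

namespace Groth.Agent.RedSub.H637.BruhatDatum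

open Groth.Agent.Sga3B Groth.Agent.Sga3B.Cell Groth.Agent.Sga3B.Cell.Datum BruhatAbs

variable {R A : Type u} [CommRing R] [CommRing A] [Algebra R A] [PtGrp R A]
variable {D : Datum R A} {B : Type u} [CommRing B] [Algebra R B]
variable {P : RootPairing D.idx ℤ D.M (Module.Dual ℤ D.M)} {b : P.Base}

lemma Hyp.conj_list_mem' (H : Hyp D P b) {n : D.idx → Pt R A R}
    (hn : ∀ a, ActsE (n a) (P.reflection a).toAddEquiv) (l : List D.idx) (c : D.idx)
    (x : Pt R A B) (hx : x ∈ Usub D B c) :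
    (bp B (l.map n).prod)⁻¹ * x * bp B (l.map n).prod ∈ Usub D B ((wl P l)⁻¹ c) := by
  induction l generalizing c x with
  | nil =>
    rw [List.map_nil, List.prod_nil, bp_one]
    simpa [wl] using hx
  | cons a l ih =>
    have h1 := ih _ _ (H.conj_mem' (hn a) c x hx)
    have h2 : (bp B ((a :: l).map n).prod)⁻¹ * x * bp B ((a :: l).map n).prod =
        (bp B (l.map n).prod)⁻¹ * ((bp B (n a))⁻¹ * x * bp B (n a)) * bp B (l.map n).prod := by
      rw [List.map_cons, List.prod_cons, bp_mul]; group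
    have h3 : wl P (a :: l) = P.reflectionPerm a * wl P l := by simp [wl]
    rw [h2, h3, mul_inv_rev]
    exact h1

lemma T_injective [Nontrivial B] {i j : ℤ} (h : (T i : B[T;T⁻¹]) = T j) : i = j := by
  have h1 := congrArg (fun z : B[T;T⁻¹] => z.coeff i) h
  simp only [LaurentPolynomial.T, AddMonoidAlgebra.coeff_single, Finsupp.single_apply, if_true] at h1
  by_contra hij
  rw [if_neg (fun h => hij h.symm)] at h1
  exact one_ne_zero h1

/-- two automorphisms of the character group acting in the same way on torus points are equal -/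
lemma eq_of_act_eq [Nontrivial B] {s s' : D.M ≃+ D.M}
    (h : ∀ t : TPt D.M B[T;T⁻¹], TPt.act s t = TPt.act s' t) : s = s' := by
  apply AddEquiv.ext
  intro m
  by_contra hne
  obtain ⟨μ, hμ⟩ := exists_lam_pos (sub_ne_zero.2 hne)
  have h1 := congrArg (TPt.ch m) (h (D.cochar μ))
  rw [TPt.ch_act, TPt.ch_act, ch_cochar, ch_cochar] at h1
  have h2 := T_injective h1
  rw [map_sub, h2, sub_self] at hμ
  exact lt_irrefl _ hμ

lemma PL_subset {Γ : Type u} [Group Γ] {idx : Type} {U : idx → Subgroup Γ} {H : Subgroup Γ}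
    {L : List idx} (h : ∀ a ∈ L, U a ≤ H) {g : Γ} (hg : g ∈ PL U L) : g ∈ H := by
  have := PL_conj (n := 1) (H := H) (fun a ha x hx => by
    rw [one_mul, inv_one, mul_one]; exact h a ha hx) hg
  rwa [one_mul, inv_one, mul_one] at this

/-- **Uniqueness of the Weyl group element.** -/
theorem Hyp.bruhat_unique (H : Hyp D P b) (n : D.idx → Pt R A R)
    (hn : ∀ a, ActsE (n a) (P.reflection a).toAddEquiv) [Nontrivial B] {l l' : List D.idx}
    {Lm Lm' Lp Lp' : List D.idx} (hLm : ∀ a ∈ Lm, ¬ b.IsPos a) (hLm' : ∀ a ∈ Lm', ¬ b.IsPos a)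
    (hLp : ∀ a ∈ Lp, b.IsPos a) (hLp' : ∀ a ∈ Lp', b.IsPos a) {u u' v v' : Pt R A B}
    (hu : u ∈ PL (Usub D B) Lm) (hu' : u' ∈ PL (Usub D B) Lm') (hv : v ∈ PL (Usub D B) Lp)
    (hv' : v' ∈ PL (Usub D B) Lp') (t t' : TPt D.M B)
    (h : u * (bp B (l.map n).prod * (D.i B t * v)) =
      u' * (bp B (l'.map n).prod * (D.i B t' * v'))) : wl P l = wl P l' := by
  classical
  obtain ⟨lam, hlam1, hlam2⟩ := H.exists_lam
  obtain ⟨Up, hUp1, hUp2, hUp3⟩ := exists_UPgrp H.good lam B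
  obtain ⟨Um, hUm1, hUm2, hUm3⟩ := exists_UPgrp H.good (-lam) B
  have hneg : ∀ a, 0 < (-lam) (D.root a) ↔ ¬ b.IsPos a := by
    intro a
    rw [← hlam2, AddMonoidHom.neg_apply]
    omega
  have hu1 : u ∈ Um := PL_subset (fun a ha => hUm2 a ((hneg a).2 (hLm a ha))) hu
  have hu1' : u' ∈ Um := PL_subset (fun a ha => hUm2 a ((hneg a).2 (hLm' a ha))) hu'
  have hv1 : v ∈ Up := PL_subset (fun a ha => hUp2 a ((hlam1 a).2 (hLp a ha))) hv
  have hv1' : v' ∈ Up := PL_subset (fun a ha => hUp2 a ((hlam1 a).2 (hLp' a ha))) hv'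
  set N := bp B (l.map n).prod with hN
  set N' := bp B (l'.map n).prod with hN'
  -- reorder `u'⁻¹ u`
  obtain ⟨L1, hL1, hL1'⟩ := BData.exists_list {a | ¬ b.IsPos a ∧ ¬ b.IsPos ((wl P l)⁻¹ a)}
  obtain ⟨L2, hL2, hL2'⟩ := BData.exists_list {a | ¬ b.IsPos a ∧ b.IsPos ((wl P l)⁻¹ a)}
  have h12 : (L1 ++ L2).Nodup := by
    rw [List.nodup_append]
    refine ⟨hL1, hL2, ?_⟩
    rintro a ha c hc rfl
    exact ((hL1' a).1 ha).2 ((hL2' a).1 hc).2
  have h12' : ∀ a, a ∈ L1 ++ L2 ↔ 0 < (-lam) (D.root a) := by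
    intro a
    rw [List.mem_append, hL1', hL2', hneg]
    simp only [Set.mem_ofPred_eq]
    tauto
  obtain ⟨u2, hu2, u3, hu3, h23⟩ := mem_PL_append.1
    (hUm1 _ h12 h12' _ (Um.mul_mem (Um.inv_mem hu1') hu1))
  have hu4 : N⁻¹ * u2 * N⁻¹⁻¹ ∈ Um := by
    refine PL_conj (fun c hc x hx => ?_) hu2
    rw [inv_inv]
    exact hUm2 _ ((hneg _).2 ((hL1' c).1 hc).2) (H.conj_list_mem' hn l c x hx)
  have hv3 : N⁻¹ * u3 * N⁻¹⁻¹ ∈ Up := by
    refine PL_conj (fun c hc x hx => ?_) hu3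
    rw [inv_inv]
    exact hUp2 _ ((hlam1 _).2 ((hL2' c).1 hc).2) (H.conj_list_mem' hn l c x hx)
  rw [inv_inv] at hu4 hv3
  set u4 := N⁻¹ * u2 * N with hu4def
  set v3 := N⁻¹ * u3 * N with hv3def
  -- torus normalises `Up`, `Um`
  have hTp : ∀ (s : TPt D.M B) (x : Pt R A B), x ∈ Up → D.i B s * x * (D.i B s)⁻¹ ∈ Up := by
    intro s x hx
    obtain ⟨y, hy, rfl⟩ := (hUp3 (allList b) (allList_nodup b) (mem_allList b) x).1 hx
    rw [conj_cell]
    exact (hUp3 (allList b) (allList_nodup b) (mem_allList b) _).2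
      ⟨_, fun a ha => by rw [hy a ha, mul_zero], rfl⟩
  have hTm : ∀ (s : TPt D.M B) (x : Pt R A B), x ∈ Um → D.i B s * x * (D.i B s)⁻¹ ∈ Um := by
    intro s x hx
    obtain ⟨y, hy, rfl⟩ := (hUm3 (allList b) (allList_nodup b) (mem_allList b) x).1 hx
    rw [conj_cell]
    exact (hUm3 (allList b) (allList_nodup b) (mem_allList b) _).2
      ⟨_, fun a ha => by rw [hy a ha, mul_zero], rfl⟩
  set s : TPt D.M B := t' * t⁻¹ with hs
  have his : D.i B s = D.i B t' * (D.i B t)⁻¹ := by rw [hs, i_mul', i_inv']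
  obtain ⟨p, hp, hpdef⟩ : ∃ p ∈ Up, p = (D.i B t' * (v' * v⁻¹) * (D.i B t')⁻¹) *
      (D.i B s * v3⁻¹ * (D.i B s)⁻¹) :=
    ⟨_, Up.mul_mem (hTp _ _ (Up.mul_mem hv1' (Up.inv_mem hv1))) (hTp _ _ (Up.inv_mem hv3)), rfl⟩
  obtain ⟨q, hq, hqdef⟩ : ∃ q ∈ Um, q = D.i B s * u4⁻¹ * (D.i B s)⁻¹ :=
    ⟨_, hTm _ _ (Um.inv_mem hu4), rfl⟩
  have key : N = N' * (p * (q * D.i B s)) := by
    have e1 : u'⁻¹ * u = N * u4 * v3 * N⁻¹ := by
      rw [h23, hu4def, hv3def]; group
    have e2 : N' = u'⁻¹ * u * N * D.i B t * v * (D.i B t' * v')⁻¹ := by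
      have : N' = u'⁻¹ * (u' * (N' * (D.i B t' * v'))) * (D.i B t' * v')⁻¹ := by group
      rw [this, ← h]
      group
    rw [e2, e1, hpdef, hqdef, his]
    group
  -- coordinates
  obtain ⟨Y, hY, hYp⟩ := (hUp3 (allList b) (allList_nodup b) (mem_allList b) p).1 hp
  obtain ⟨Z, hZ, hZq⟩ := (hUm3 (allList b) (allList_nodup b) (mem_allList b) q).1 hq
  have hsl : ActsE (l.map n).prod (sig P l) := actsE_list hn l
  have hsl' : ActsE (l'.map n).prod (sig P l') := actsE_list hn l'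
  apply wl_eq_of_sig_eq
  apply eq_of_act_eq (D := D) (B := B)
  intro τ
  set φ := lC R B with hφ
  -- the equation over Laurent polynomials
  set τ' : TPt D.M B[T;T⁻¹] := TPt.act (sig P l').symm (TPt.act (sig P l) τ) with hτ'
  have hτ'' : TPt.act (sig P l') τ' = TPt.act (sig P l) τ := TPt.act_act_symm _ _
  have e3 : bp B[T;T⁻¹] (l.map n).prod = bp B[T;T⁻¹] (l'.map n).prod *
      (D.cell (allList b) (fun a => φ (Y a)) 1 *
        D.cell (allList b) (fun a => φ (Z a)) (TPt.map φ s)) := by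
    have h1 := congrArg (Pt.map φ) key
    rw [hYp, hZq, cell_mul_i, TPt.one_mul', Pt.map_mul, Pt.map_mul, cell_nat, cell_nat, hN, hN',
      map_bp, map_bp, map_one] at h1
    exact h1
  have e4 : D.cell (allList b) (fun a => φ (Y a)) 1 *
        D.cell (allList b) (fun a => φ (Z a)) (TPt.map φ s * τ) =
      D.cell (allList b) (fun a => TPt.ch (D.root a) τ' * φ (Y a)) 1 *
        D.cell (allList b) (fun a => TPt.ch (D.root a) τ' * φ (Z a)) (τ' * TPt.map φ s) := by
    have h1 := hsl τ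
    rw [← hτ''] at h1
    rw [e3] at h1
    have h2 : D.i B[T;T⁻¹] (TPt.act (sig P l') τ') * bp B[T;T⁻¹] (l'.map n).prod =
        bp B[T;T⁻¹] (l'.map n).prod * D.i B[T;T⁻¹] τ' := (hsl' τ').symm
    rw [← mul_assoc (D.i _ _), h2, mul_assoc, mul_assoc, mul_assoc (bp B[T;T⁻¹] _)] at h1
    have h3 := mul_left_cancel h1
    rw [cell_mul_i] at h3
    rw [h3, ← mul_assoc, i_mul_cell, cell_eq_mul_i D _ _ (τ' * 1), mul_assoc, TPt.mul_one',
      i_mul_cell]
  obtain ⟨δ, hδ, hδ0⟩ := H.good (allList b) (allList_nodup b) (mem_allList b)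
  have e5 := bigCell_inj (D := D) hδ hδ0 (-lam) (k := fun a => (-lam) (D.root a)) (fun a => rfl)
    (fun a ha => by
      rw [hY a (by rw [AddMonoidHom.neg_apply] at ha; omega), map_zero])
    (fun a ha => by rw [hZ a ha, map_zero])
    (fun a ha => by
      rw [hY a (by rw [AddMonoidHom.neg_apply] at ha; omega), map_zero, mul_zero])
    (fun a ha => by rw [hZ a ha, map_zero, mul_zero]) e4
  have e6 : τ = τ' := by
    have h1 := e5.2.2
    rw [TPt.mul_comm'] at h1
    exact TPt.mul_right_cancel' h1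
  rw [← hτ'', ← e6]

end Groth.Agent.RedSub.H637.BruhatDatum
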